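import Groth.Agent.ChevSp.Geo
import Groth.Agent.AlgSpDec.AffineProps
import Groth.Agent.AlgSpPts.Sep
import Groth.Agent.AlgSpPts.OpenSub
import Groth.Agent.AlgSpDec.GroupScheme
import Groth.Agent.NormSp.Clopen
import Groth.Agent.QuotLib.CatModuli

/-!
# Integral bijections and representability
-/

set_option autoImplicit false
set_option backward.isDefEq.respectTransparency false
set_option backward.isDefEq.respectTransparency.types false

universe u

open CategoryTheory CategoryTheory.Limits AlgebraicGeometry Opposite AlgSp Groth.Agent.AlgSpLib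

namespace Groth.Agent.AicLib

variable {S : Scheme.{u}}

theorem isRepresentable_iff_of_integral_bijective {X Y : Sp S} (hX : IsAlgSpace X) (hY : IsAlgSpace Y) (f : X ⟶ Y)
    (hint : IsIntegralMor f) (hbij : Function.Bijective (Points.map f)) :
    X.obj.IsRepresentable ↔ Y.obj.IsRepresentable := by
  have hf := AlgSpDec.isIntegralMor_iff_repWith.1 hint
  constructor
  · intro h
    obtain ⟨T, ⟨e⟩⟩ := QuotLib.exists_iso_yon h
    let g : (yon S).obj T ⟶ Y := e.hom ≫ f
    have hgu : RepWith @UniversallyClosed g :=
      repWith_mono (fun _ _ m (_ : IsIntegralHom m) => (inferInstance : UniversallyClosed m)) _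
        (repWith_comp (repWith_of_isIso @IsIntegralHom e.hom) hf)
    have hguc : IsUnivClosedMor g := AlgSpDec.isUnivClosedMor_of_repWith_universallyClosed hgu
    have hgcl : IsClosedMap (Points.map g) :=
      hguc hY (𝟙 Y) (𝟙 _) g (IsPullback.of_horiz_isIso ⟨by simp⟩)
    have hgb : Function.Bijective (Points.map g) := by
      have he : Function.Bijective (Points.map e.hom) := Function.bijective_iff_has_inverse.2
        ⟨Points.map e.inv, fun x => by rw [← Points.map_comp, e.hom_inv_id, Points.map_id],
          fun x => by rw [← Points.map_comp, e.inv_hom_id, Points.map_id]⟩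
      have : Points.map g = Points.map f ∘ Points.map e.hom := funext fun x => Points.map_comp e.hom f x
      rw [this]
      exact hbij.comp he
    refine AlgSpDec.GroupScheme.isRepresentable_of_nhds hY fun y => ?_
    obtain ⟨t₀, ht⟩ := hgb.2 y
    obtain ⟨t, rfl⟩ := (Points.schemeHomeo T).surjective t₀
    obtain ⟨O, hO, htO, -⟩ := exists_isAffineOpen_mem_and_subset (U := (⊤ : T.left.Opens)) (x := t) trivial
    let W : Set (Points Y) := Points.map g '' (Points.schemeHomeo T '' (O : Set ↥T.left))
    have hW : IsOpen W := by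
      rw [← isClosed_compl_iff, ← Set.image_compl_eq hgb]
      exact hgcl _ ((Points.schemeHomeo T).isOpenMap _ O.2).isClosed_compl
    obtain ⟨V, jV, hV, hjV, hjW⟩ := AlgSpPts.exists_open_subspace hY hW
    let R := hjV.rep.pullback g
    let r : R ⟶ T := hjV.rep.snd g
    have sq := hjV.rep.isPullback g
    have : IsOpenImmersion r.left := hjV.property_snd g
    have hr : r.left.opensRange = O := by
      ext z
      change z ∈ Set.range r.left ↔ z ∈ (O : Set ↥T.left)
      rw [← NormSp.ofPt_mem_range_iff sq z, hjW, ← NormSp.map_yon_schemeHomeo]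
      exact (hgb.1.mem_set_image).trans ((Points.schemeHomeo T).injective.mem_set_image)
    have : IsAffine O.toScheme := hO
    have : IsAffine R.left := by
      have : IsAffine r.left.opensRange.toScheme := by rw [hr]; exact hO
      exact .of_isIso r.left.isoOpensRange.hom
    obtain ⟨T', hT', ⟨e'⟩⟩ := ChevSp.exists_affine_of_univClosed hV (T := R) (hjV.rep.fst g)
      (AlgSpPts.isUnivClosedMor_of_isPullback sq.flip hguc) (fun v => by
        obtain ⟨_, ⟨a, -, rfl⟩, ha⟩ := (show Points.map jV v ∈ W by rw [← hjW]; exact ⟨v, rfl⟩)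
        obtain ⟨z, hz, -⟩ := exists_point_of_isPullback sq ha.symm
        exact ⟨z, hz⟩)
    refine ⟨T', e'.hom ≫ jV, repWith_comp (repWith_of_isIso _ _) hjV, ?_⟩
    rw [← ht]
    obtain ⟨v, hv⟩ : Points.map g (Points.schemeHomeo T t) ∈ Set.range (Points.map jV) := by
      rw [hjW]; exact ⟨_, ⟨t, htO, rfl⟩, rfl⟩
    exact ⟨Points.map e'.inv v, by rw [← Points.map_comp, e'.inv_hom_id_assoc]; exact hv⟩
  · intro h
    obtain ⟨T, ⟨e⟩⟩ := QuotLib.exists_iso_yon h
    have : IsIso (hf.rep.fst e.hom) := (hf.rep.isPullback e.hom).isIso_fst_of_isIso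
    exact AlgSpDec.isRepresentable_of_iso (asIso (hf.rep.fst e.hom))

end Groth.Agent.AicLib
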