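import Groth.Agent.NormSp.Exists
import Groth.Agent.NormSp.Local
import Groth.Agent.AlgSpPts.Misc
import Groth.Agent.AlgSpLib.AffineDescProps
import Groth.Agent.AlgSpDec.LimDescentRep

/-!
# Integral morphisms extend from quasi-compact opens
-/

set_option autoImplicit false
set_option backward.isDefEq.respectTransparency false
set_option backward.isDefEq.respectTransparency.types false

universe u

open CategoryTheory CategoryTheory.Limits AlgebraicGeometry Opposite AlgSp Groth.Agent.AlgSpLib

namespace Groth.Agent.AicLib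

variable {S : Scheme.{u}}

/-- An integral morphism to a quasi-compact open extends to an integral morphism. -/
theorem exists_integral_extension {V Y Z : Sp S} (hY : IsAlgSpace Y) (hV : IsAlgSpace V) (hZ : IsAlgSpace Z)
    (j : V ⟶ Y) (hj : RepWith @IsOpenImmersion j) (hjq : IsQuasiCompactMor j) (π : Z ⟶ V) (hπ : IsIntegralMor π) :
    ∃ (Y' : Sp S) (ν : Y' ⟶ Y) (j' : Z ⟶ Y'), IsAlgSpace Y' ∧ IsIntegralMor ν ∧ IsPullback j' π ν j := by
  have hπr := AlgSpDec.isIntegralMor_iff_repWith.1 hπ
  have hπqc : IsQuasiCompactMor π := AlgSpPts.isQuasiCompactMor_of_repWith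
    (repWith_mono (fun _ _ f (_ : IsIntegralHom f) => (inferInstance : QuasiCompact f)) _ hπr)
  have hqc : IsQuasiCompactMor (π ≫ j) := AlgSpPts.isQuasiCompactMor_comp hV hY hπqc hjq
  have hqs : IsQuasiSeparatedMor (π ≫ j) := AlgSpPts.isQuasiSeparatedMor_comp
    (AlgSpDec.isQuasiSeparatedMor_of_isSeparatedMor (isSeparatedMor_of_repWith
      (repWith_mono (fun _ _ f (_ : IsIntegralHom f) => (inferInstance : IsSeparated f)) _ hπr)))
    (AlgSpDec.isQuasiSeparatedMor_of_isSeparatedMor (isSeparatedMor_of_repWith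
      (repWith_mono (fun _ _ f (_ : IsOpenImmersion f) => (inferInstance : IsSeparated f)) _ hj)))
  obtain ⟨Y', ν, f', hY', hUN⟩ := NormSp.exists_isUN hZ hY (π ≫ j) hqc hqs
  have : Mono j := by
    refine mono_of_yon_injective fun T a b e => ?_
    have sq := hj.rep.isPullback (b ≫ j)
    have : IsOpenImmersion (hj.rep.snd (b ≫ j)).left := hj.property_snd (b ≫ j)
    have : Mono (hj.rep.snd (b ≫ j)) := (Over.forget S).mono_of_mono_map
      (inferInstanceAs (Mono (hj.rep.snd (b ≫ j)).left))
    have h₁ : hj.rep.lift a (𝟙 T) (by rw [CategoryTheory.Functor.map_id, Category.id_comp, e]) =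
        hj.rep.lift b (𝟙 T) (by rw [CategoryTheory.Functor.map_id, Category.id_comp]) := by
      rw [← cancel_mono (hj.rep.snd (b ≫ j)), hj.rep.lift_snd, hj.rep.lift_snd]
    have h₂ := congrArg (fun l => (yon S).map l ≫ hj.rep.fst (b ≫ j)) h₁
    simp only [Functor.relativelyRepresentable.lift_fst] at h₂
    exact h₂
  have sqZ : IsPullback (𝟙 Z) π (π ≫ j) j := by
    have h := (IsPullback.of_horiz_isIso (fst := 𝟙 Z) (snd := π) (f := π) (g := 𝟙 V) ⟨by simp⟩).paste_vert
      (IsPullback.of_isLimit (PullbackCone.isLimitMkIdId j))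
    simpa using h
  have hsm : RepWith @Smooth j := repWith_mono (fun _ _ f (_ : IsOpenImmersion f) => inferInstanceAs (Smooth f)) _ hj
  let XV := pullback ν j
  let fV : Z ⟶ XV := pullback.lift f' π (by rw [hUN.fac])
  have h₁ : IsRelNormalization π (pullback.snd ν j) fV :=
    (hUN.baseChange j hsm sqZ (IsPullback.of_hasPullback ν j) (pullback.lift_snd _ _ _)
      (by rw [Category.id_comp, pullback.lift_fst])).isRelNormalization hV
  have h₂ : IsRelNormalization π π (𝟙 Z) :=
    ⟨Category.id_comp _, hπ, fun _ _ π' g _ hg => ⟨g, ⟨Category.id_comp _, hg⟩,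
      fun h hh => by simpa using hh.1⟩⟩
  obtain ⟨e, he₁, he₂⟩ := NormSp.exists_iso_of_norm hV h₂ h₁
  rw [Category.id_comp] at he₁
  refine ⟨Y', ν, e.hom ≫ pullback.fst ν j, hY', hUN.integral, ?_⟩
  refine IsPullback.of_iso (IsPullback.of_hasPullback ν j) e.symm (Iso.refl _) (Iso.refl _) (Iso.refl _)
    (by simp) ?_ (by simp) (by simp)
  simp [← he₂]

end Groth.Agent.AicLib
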