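import Mathlib.AlgebraicGeometry.Morphisms.Etale
import Mathlib.AlgebraicGeometry.Morphisms.FlatMono
import Mathlib.AlgebraicGeometry.Morphisms.QuasiFinite
import Mathlib.AlgebraicGeometry.Morphisms.QuasiSeparated
import Mathlib.FieldTheory.IsAlgClosed.AlgebraicClosure
import Groth.Agent.AlgSpLib.EtLocalInst

/-!
# Etale schemes over the spectrum of a product of algebraically closed fields

A quasi-compact separated such scheme is covered by finitely many open and closed pieces on which the map to
the spectrum is a monomorphism.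
-/

set_option autoImplicit false
set_option backward.isDefEq.respectTransparency false
set_option backward.isDefEq.respectTransparency.types false

universe u

open CategoryTheory CategoryTheory.Limits AlgebraicGeometry Opposite TopologicalSpace Polynomial

namespace Groth.Agent.AicLib

/-- Every prime ideal of a product of fields is maximal. -/
theorem isMaximal_pi {ι : Type u} {K : ι → Type u} [∀ i, Field (K i)] (p : Ideal (∀ i, K i)) [hp : p.IsPrime] :
    p.IsMaximal := by
  classical
  refine Ideal.isMaximal_iff.2 ⟨(p.ne_top_iff_one).1 hp.ne_top, fun J x hJ hxp hxJ => ?_⟩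
  let y : ∀ i, K i := fun i => (x i)⁻¹
  have h0 : x * (1 - x * y) = 0 := funext fun i => by
    by_cases h : x i = 0
    · simp [h]
    · simp [y, h]
  have h1 : 1 - x * y ∈ J := hJ ((hp.mem_or_mem (h0 ▸ p.zero_mem)).resolve_left hxp)
  simpa using J.add_mem h1 (J.mul_mem_right y hxJ)

/-- There are no proper specializations in the spectrum of a product of fields. -/
theorem eq_of_specializes_pi {ι : Type u} {K : ι → Type u} [∀ i, Field (K i)]
    {a b : ↥(Spec (CommRingCat.of (∀ i, K i)))} (h : a ⤳ b) : a = b :=
  PrimeSpectrum.ext ((isMaximal_pi a.asIdeal).eq_of_le b.isPrime.ne_top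
    ((PrimeSpectrum.le_iff_specializes a b).2 h))

/-- The residue fields of a product of algebraically closed fields are algebraically closed. -/
theorem isAlgClosed_residueField_pi {ι : Type u} (K : ι → Type u) [∀ i, Field (K i)] [∀ i, IsAlgClosed (K i)]
    (x : ↥(Spec (CommRingCat.of (∀ i, K i)))) :
    IsAlgClosed ((Spec (CommRingCat.of (∀ i, K i))).residueField x) := by
  have : x.asIdeal.IsMaximal := isMaximal_pi x.asIdeal
  let φ : (∀ i, K i) →+* (Spec (CommRingCat.of (∀ i, K i))).residueField x :=
    ((Scheme.Spec.residueFieldIso _ x).inv.hom).comp (algebraMap (∀ i, K i) x.asIdeal.ResidueField)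
  have hφ : Function.Surjective φ := by
    refine (ConcreteCategory.bijective_of_isIso (Scheme.Spec.residueFieldIso _ x).inv).2.comp ?_
    intro z
    obtain ⟨q, rfl⟩ := (Ideal.bijective_algebraMap_quotient_residueField x.asIdeal).2 z
    obtain ⟨a, rfl⟩ := Ideal.Quotient.mk_surjective q
    exact ⟨a, rfl⟩
  refine IsAlgClosed.of_exists_root _ fun p hm hirr => ?_
  have hl : p ∈ Polynomial.lifts φ := by
    rw [Polynomial.mem_lifts]
    exact Polynomial.map_surjective φ hφ p
  obtain ⟨q, hq, hdeg, hqm⟩ := Polynomial.lifts_and_degree_eq_and_monic hl hm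
  have hne : ∀ i, (q.map (Pi.evalRingHom K i)).degree ≠ 0 := fun i => by
    rw [hqm.degree_map, hdeg]
    exact fun h => hirr.natDegree_pos.ne' (Polynomial.natDegree_eq_zero_iff_degree_le_zero.2 h.le)
  choose r hr using fun i => IsAlgClosed.exists_root (q.map (Pi.evalRingHom K i)) (hne i)
  have h0 : q.eval r = 0 := funext fun i => by
    show (Pi.evalRingHom K i) (q.eval r) = 0
    rw [← Polynomial.eval₂_at_apply, ← Polynomial.eval_map]
    exact hr i
  refine ⟨φ r, ?_⟩
  rw [← hq, Polynomial.eval_map, Polynomial.eval₂_at_apply, h0, map_zero]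

variable {T W : Scheme.{u}} (h : W ⟶ T)

/-- The residue extensions of an etale morphism to a point with algebraically closed residue field are trivial. -/
theorem residueFieldMap_bijective [Etale h] (w : ↥W) [IsAlgClosed (T.residueField (h w))] :
    Function.Bijective (h.residueFieldMap w).hom := by
  let _ : Algebra (T.residueField (h w)) (W.residueField w) := (h.residueFieldMap w).hom.toAlgebra
  have : Algebra.IsSeparable (T.residueField (h w)) (W.residueField w) :=
    inferInstanceAs (Algebra.IsSeparable (T.residueField (h.base w)) (W.residueField w))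
  have : Algebra.IsIntegral (T.residueField (h w)) (W.residueField w) := inferInstance
  exact IsAlgClosed.algebraMap_bijective_of_isIntegral (k := T.residueField (h w)) (K := W.residueField w)

/-- A locally quasi-finite scheme over a space without specializations has none. -/
theorem eq_of_specializes [LocallyQuasiFinite h] (hT : ∀ ⦃a b : ↥T⦄, a ⤳ b → a = b) {a b : ↥W} (hab : a ⤳ b) :
    a = b := by
  have e : h a = h b := hT (hab.map h.continuous)
  have hd : _root_.IsDiscrete (h ⁻¹' {h b}) := h.isDiscrete_preimage_singleton _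
  have h' : (⟨a, e⟩ : ↥(h ⁻¹' {h b})) ⤳ ⟨b, rfl⟩ := (subtype_specializes_iff _ _).2 hab
  have : DiscreteTopology ↥(h ⁻¹' {h b}) := hd.to_subtype
  exact congrArg Subtype.val h'.eq

/-- Without specializations compact opens are closed. -/
theorem isClosed_of_isCompact [QuasiSeparatedSpace W] (hW : ∀ ⦃a b : ↥W⦄, a ⤳ b → a = b) (O : W.Opens)
    (hO : IsCompact (O : Set ↥W)) : IsClosed (O : Set ↥W) := by
  have : CompactSpace ↥O.toScheme := isCompact_iff_compactSpace.1 hO
  have : QuasiCompact O.ι := inferInstance
  have hs : SpecializingMap O.ι := fun x y hxy => ⟨x, specializes_rfl, hW hxy⟩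
  simpa using ((isClosedMap_iff_specializingMap O.ι).2 hs).isClosed_range

variable [Etale h]

/-- Two points with values in a field agree if their images agree. -/
theorem ext_point (hres : ∀ t : ↥T, IsAlgClosed (T.residueField t)) {K : Type u} [Field K]
    (g₁ g₂ : Spec (CommRingCat.of K) ⟶ W) (e : g₁ (IsLocalRing.closedPoint K) = g₂ (IsLocalRing.closedPoint K))
    (e' : g₁ ≫ h = g₂ ≫ h) : g₁ = g₂ := by
  obtain ⟨⟨x, a⟩, rfl⟩ := (Scheme.SpecToEquivOfField K W).symm.surjective g₁
  obtain ⟨⟨y, b⟩, rfl⟩ := (Scheme.SpecToEquivOfField K W).symm.surjective g₂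
  simp only [Scheme.SpecToEquivOfField_symm_apply, Scheme.Hom.comp_apply,
    Scheme.fromSpecResidueField_apply] at e
  subst e
  simp only [Scheme.SpecToEquivOfField_symm_apply, Category.assoc] at e'
  rw [← Scheme.Hom.SpecMap_residueFieldMap_fromSpecResidueField, ← Category.assoc, ← Category.assoc,
    cancel_mono (T.fromSpecResidueField _), ← Spec.map_comp, ← Spec.map_comp, Spec.map_inj] at e'
  have := hres (h x)
  have : IsIso (h.residueFieldMap x) :=
    (ConcreteCategory.isIso_iff_bijective _).2 (residueFieldMap_bijective h x)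
  rw [cancel_epi] at e'
  rw [e']

/-- Every point has an open and closed neighbourhood on which the map is a monomorphism. -/
theorem exists_clopen_mono [CompactSpace W] [QuasiSeparatedSpace W] [QuasiCompact h]
    (hT : ∀ ⦃a b : ↥T⦄, a ⤳ b → a = b) (hres : ∀ t : ↥T, IsAlgClosed (T.residueField t)) (w : ↥W) :
    ∃ N : W.Opens, w ∈ N ∧ IsClosed (N : Set ↥W) ∧ Mono (N.ι ≫ h) := by
  have hW : ∀ ⦃a b : ↥W⦄, a ⤳ b → a = b := fun a b => eq_of_specializes h hT
  let P := pullback h h
  let Δ : W ⟶ P := pullback.diagonal h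
  have : IsOpenImmersion Δ := inferInstance
  have : CompactSpace ↥P := QuasiCompact.compactSpace_of_compactSpace (pullback.fst h h)
  let R : Set ↥P := (Set.range Δ)ᶜ
  have hR : IsCompact R := Δ.isOpenEmbedding.isOpen_range.isClosed_compl.isCompact
  -- a point of the complement does not lie over the diagonal
  have hoff : ∀ r ∈ R, pullback.fst h h r = pullback.snd h h r → False := fun r hr e => by
    let K := P.residueField r
    let g₁ : Spec K ⟶ W := P.fromSpecResidueField r ≫ pullback.fst h h
    let g₂ : Spec K ⟶ W := P.fromSpecResidueField r ≫ pullback.snd h h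
    have hpt : (P.fromSpecResidueField r) (IsLocalRing.closedPoint K) = r := Scheme.fromSpecResidueField_apply r _
    have hg : g₁ = g₂ := ext_point h hres g₁ g₂
      (by
        show pullback.fst h h (P.fromSpecResidueField r _) = pullback.snd h h (P.fromSpecResidueField r _)
        exact ((congrArg (fun z => pullback.fst h h z) hpt).trans e).trans
          (congrArg (fun z => pullback.snd h h z) hpt).symm)
      (by simp only [g₁, g₂, Category.assoc, pullback.condition])
    have hfac : P.fromSpecResidueField r = g₁ ≫ Δ := by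
      apply pullback.hom_ext
      · simp [g₁, Δ]
      · simpa [g₁, Δ] using hg.symm
    apply hr
    refine ⟨g₁ (IsLocalRing.closedPoint _), ?_⟩
    rw [← Scheme.Hom.comp_apply, ← hfac, Scheme.fromSpecResidueField_apply]
  -- the open and closed neighbourhoods
  let ι := {N : W.Opens // w ∈ N ∧ IsClosed (N : Set ↥W)}
  let F : ι → Set ↥P := fun N => pullback.fst h h ⁻¹' N.1 ∩ pullback.snd h h ⁻¹' N.1
  have hsep : ∀ x : ↥W, x ≠ w → ∃ N : ι, x ∉ N.1 := fun x hx => by
    have hcl : IsClosed ({x} : Set ↥W) := by
      refine isClosed_of_closure_subset fun y hy => ?_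
      exact (hW (specializes_iff_mem_closure.2 hy)).symm
    obtain ⟨O, hO, hw, hOs⟩ := exists_isAffineOpen_mem_and_subset (U := ⟨{x}ᶜ, hcl.isOpen_compl⟩) (x := w)
      (fun e => hx e.symm)
    exact ⟨⟨O, hw, isClosed_of_isCompact hW O hO.isCompact⟩, fun hxO => hOs hxO rfl⟩
  have hempty : (R ∩ ⋂ N : ι, F N) = ∅ := Set.eq_empty_iff_forall_notMem.2 fun r ⟨hr, hrN⟩ => by
    rw [Set.mem_iInter] at hrN
    have e₁ : pullback.fst h h r = w := by
      by_contra hne
      obtain ⟨N, hN⟩ := hsep _ hne
      exact hN (hrN N).1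
    have e₂ : pullback.snd h h r = w := by
      by_contra hne
      obtain ⟨N, hN⟩ := hsep _ hne
      exact hN (hrN N).2
    exact hoff r hr (e₁.trans e₂.symm)
  obtain ⟨t, ht⟩ := hR.elim_finite_subfamily_closed F
    (fun N => (N.2.2.preimage (pullback.fst h h).continuous).inter (N.2.2.preimage (pullback.snd h h).continuous))
    hempty
  let N₀ : W.Opens := t.inf fun N => N.1
  have hN₀ : w ∈ N₀ ∧ IsClosed (N₀ : Set ↥W) :=
    Finset.inf_induction (p := fun O : W.Opens => w ∈ O ∧ IsClosed (O : Set ↥W)) ⟨trivial, isClosed_univ⟩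
      (fun a ha b hb => ⟨⟨ha.1, hb.1⟩, ha.2.inter hb.2⟩) fun N _ => N.2
  refine ⟨N₀, hN₀.1, hN₀.2, ⟨fun {Z} a b hab => ?_⟩⟩
  let k : Z ⟶ P := pullback.lift (a ≫ N₀.ι) (b ≫ N₀.ι) (by simpa using hab)
  have hk : Set.range k ⊆ Set.range Δ := by
    rintro _ ⟨z, rfl⟩
    by_contra hz
    have : k z ∈ R ∩ ⋂ N ∈ t, F N := by
      refine ⟨hz, Set.mem_iInter₂.2 fun N hN => ⟨?_, ?_⟩⟩
      · show pullback.fst h h (k z) ∈ N.1
        rw [← Scheme.Hom.comp_apply, pullback.lift_fst, Scheme.Hom.comp_apply]
        exact (Finset.inf_le hN : N₀ ≤ N.1) (a z).2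
      · show pullback.snd h h (k z) ∈ N.1
        rw [← Scheme.Hom.comp_apply, pullback.lift_snd, Scheme.Hom.comp_apply]
        exact (Finset.inf_le hN : N₀ ≤ N.1) (b z).2
    rw [ht] at this
    exact this
  rw [← cancel_mono N₀.ι]
  have h₁ := congrArg (· ≫ pullback.fst h h) (IsOpenImmersion.lift_fac Δ k hk)
  have h₂ := congrArg (· ≫ pullback.snd h h) (IsOpenImmersion.lift_fac Δ k hk)
  simp only [k, Δ, Category.assoc, pullback.diagonal_fst, pullback.diagonal_snd, Category.comp_id,
    pullback.lift_fst, pullback.lift_snd] at h₁ h₂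
  exact h₁.symm.trans h₂

end Groth.Agent.AicLib
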