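import Groth.Agent.NormSp.Aff

/-!
# Global functions on an affine normalization

They are the functions on the scheme which are integral over the base.
-/

set_option autoImplicit false
set_option backward.isDefEq.respectTransparency false
set_option backward.isDefEq.respectTransparency.types false
set_option maxHeartbeats 1000000

universe u

open CategoryTheory CategoryTheory.Limits AlgebraicGeometry Opposite AlgSp Groth.Agent.AlgSpLib

namespace Groth.Agent.AicLib

variable {S : Scheme.{u}} {U W N : Over S} [IsAffine U.left] (k : W ⟶ U) (ν : N ⟶ U) (n : W ⟶ N)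
  (hn : IsRelNormalization ((yon S).map k) ((yon S).map ν) ((yon S).map n))

omit [IsAffine U.left] in
include hn in
theorem isIntegralHom_of_norm : IsIntegralHom ν.left :=
  (repWith_yon_map_iff @IsIntegralHom ν).1 (AlgSpDec.isIntegralMor_iff_repWith.1 hn.2.1)

include hn in
theorem norm_appTop :
    Function.Injective n.left.appTop.hom ∧
      ∀ b, k.left.appTop.hom.IsIntegralElem b → b ∈ Set.range n.left.appTop.hom := by
  have := isIntegralHom_of_norm k ν n hn
  have : IsAffine N.left := isAffine_of_isAffineHom ν.left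
  have hnk : n ≫ ν = k := (yon S).map_injective (by rw [Functor.map_comp]; exact hn.1)
  have hk : ν.left.appTop ≫ n.left.appTop = k.left.appTop := by
    rw [← Scheme.Hom.comp_appTop, ← Over.comp_left, hnk]
  algebraize [k.left.appTop.hom]
  let C := integralClosure Γ(U.left, ⊤) Γ(W.left, ⊤)
  let δ₀ : Spec (CommRingCat.of C) ⟶ U.left := Spec.map (CommRingCat.ofHom (algebraMap Γ(U.left, ⊤) C)) ≫ U.left.isoSpec.inv
  let Z : Over S := Over.mk (δ₀ ≫ U.hom)
  let δ : Z ⟶ U := Over.homMk δ₀ rfl
  have : IsAffine Z.left := inferInstanceAs (IsAffine (Spec (CommRingCat.of C)))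
  have hδ₀ : δ₀.appTop = CommRingCat.ofHom (algebraMap Γ(U.left, ⊤) C) ≫ (Scheme.ΓSpecIso (CommRingCat.of C)).inv := by
    have e : U.left.isoSpec.inv.appTop = (Scheme.ΓSpecIso _).inv := by
      rw [← cancel_mono U.left.isoSpec.hom.appTop, ← Scheme.Hom.comp_appTop, Iso.hom_inv_id, Scheme.Hom.id_appTop]
      simp [Scheme.isoSpec]
    rw [Scheme.Hom.comp_appTop, e, ← Scheme.ΓSpecIso_inv_naturality]
  obtain ⟨g₀, hg₀⟩ := NormSp.exists_appTop (X := W.left) (Y := Z.left)
    ((Scheme.ΓSpecIso (CommRingCat.of C)).hom ≫ CommRingCat.ofHom C.val.toRingHom)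
  have hgδ : g₀ ≫ δ₀ = k.left := ext_of_isAffine (by
    rw [Scheme.Hom.comp_appTop, hδ₀, hg₀, Category.assoc, Iso.inv_hom_id_assoc]
    rfl)
  let g : W ⟶ Z := Over.homMk g₀ (by
    show g₀ ≫ δ₀ ≫ U.hom = W.hom
    rw [← Category.assoc, hgδ, Over.w k])
  have hδi : IsIntegralHom δ.left := by
    show IsIntegralHom δ₀
    rw [HasAffineProperty.iff_of_isAffine (P := @IsIntegralHom)]
    refine ⟨inferInstance, ?_⟩
    show δ₀.appTop.hom.IsIntegral
    rw [hδ₀]
    exact RingHom.IsIntegral.trans _ _ (algebraMap_isIntegral_iff.2 inferInstance)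
      (RingHom.isIntegral_of_surjective _ (ConcreteCategory.bijective_of_isIso
        (Scheme.ΓSpecIso (CommRingCat.of C)).inv).2)
  obtain ⟨h, ⟨hh₁, hh₂⟩, -⟩ := hn.2.2 (IsAlgSpace.yon_obj Z) ((yon S).map δ) ((yon S).map g)
    (AlgSpDec.isIntegralMor_iff_repWith.2 ((repWith_yon_map_iff @IsIntegralHom δ).2 hδi))
    (by rw [← Functor.map_comp]; exact congrArg _ (Over.OverMorphism.ext hgδ))
  obtain ⟨h, rfl⟩ := (yon S).map_surjective h
  have hh₁' : n ≫ h = g := (yon S).map_injective (by rw [Functor.map_comp]; exact hh₁)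
  have hh₂' : h ≫ δ = ν := (yon S).map_injective (by rw [Functor.map_comp]; exact hh₂)
  have hgi : ∀ z, g.left.appTop.hom z = ((Scheme.ΓSpecIso (CommRingCat.of C)).hom.hom z).1 := fun z =>
    ConcreteCategory.congr_hom hg₀ z
  -- every function on the normalization is integral
  have hmem : ∀ x, n.left.appTop.hom x ∈ C := fun x => by
    obtain ⟨p, hp, hp'⟩ := NormSp.appTop_isIntegral ν.left x
    refine ⟨p, hp, ?_⟩
    show Polynomial.eval₂ k.left.appTop.hom _ p = 0
    rw [← hk, CommRingCat.hom_comp, ← Polynomial.hom_eval₂, hp', map_zero]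
  obtain ⟨j₀, hj₀⟩ := NormSp.exists_appTop (X := Z.left) (Y := N.left)
    (CommRingCat.ofHom (n.left.appTop.hom.codRestrict C.toSubring hmem) ≫
      (Scheme.ΓSpecIso (CommRingCat.of C)).inv)
  have hjg : j₀.appTop ≫ g.left.appTop = n.left.appTop := CommRingCat.hom_ext (RingHom.ext fun x => by
    show g.left.appTop.hom (j₀.appTop.hom x) = _
    rw [hgi, ConcreteCategory.congr_hom hj₀ x]
    exact congrArg Subtype.val (ConcreteCategory.congr_hom (Scheme.ΓSpecIso (CommRingCat.of C)).inv_hom_id _))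
  have hinjg : Function.Injective g.left.appTop.hom := fun a b e => by
    rw [hgi, hgi] at e
    exact (ConcreteCategory.bijective_of_isIso (Scheme.ΓSpecIso (CommRingCat.of C)).hom).1 (Subtype.ext e)
  have : Mono g.left.appTop := ConcreteCategory.mono_of_injective _ hinjg
  have hjν : j₀ ≫ ν.left = δ.left := ext_of_isAffine (by
    rw [← cancel_mono g.left.appTop, Scheme.Hom.comp_appTop, Category.assoc, hjg, hk,
      ← Scheme.Hom.comp_appTop, ← Over.comp_left,
      show g ≫ δ = k from Over.OverMorphism.ext hgδ])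
  let j : Z ⟶ N := Over.homMk j₀ (by rw [← Over.w ν, ← Category.assoc, hjν, Over.w δ])
  have hgj : g ≫ j = n := Over.OverMorphism.ext (ext_of_isAffine (by
    rw [Over.comp_left, Scheme.Hom.comp_appTop]; exact hjg))
  have hid : h ≫ j = 𝟙 N := by
    obtain ⟨q, -, hq⟩ := hn.2.2 (IsAlgSpace.yon_obj N) ((yon S).map ν) ((yon S).map n) hn.2.1
      (by rw [← Functor.map_comp, hnk])
    refine (yon S).map_injective ((hq _ ⟨?_, ?_⟩).trans (hq _ ⟨?_, ?_⟩).symm)
    · rw [← Functor.map_comp, ← Category.assoc, hh₁', hgj]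
    · rw [← Functor.map_comp, Category.assoc, show j ≫ ν = δ from Over.OverMorphism.ext hjν, hh₂']
    · rw [← Functor.map_comp, Category.comp_id]
    · rw [← Functor.map_comp, Category.id_comp]
  refine ⟨?_, fun b hb => ?_⟩
  · rw [← hjg]
    refine hinjg.comp ?_
    refine Function.LeftInverse.injective (g := h.left.appTop.hom) fun x => ?_
    show (j₀.appTop ≫ h.left.appTop) x = x
    rw [← Scheme.Hom.comp_appTop, show h.left ≫ j₀ = 𝟙 N.left from congrArg (fun l => l.left) hid,
      Scheme.Hom.id_appTop]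
    rfl
  · refine ⟨h.left.appTop.hom ((Scheme.ΓSpecIso (CommRingCat.of C)).inv.hom ⟨b, hb⟩), ?_⟩
    show (h.left.appTop ≫ n.left.appTop) _ = b
    rw [← Scheme.Hom.comp_appTop, ← Over.comp_left, hh₁', hgi]
    exact congrArg Subtype.val (ConcreteCategory.congr_hom (Scheme.ΓSpecIso (CommRingCat.of C)).inv_hom_id _)

end Groth.Agent.AicLib
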