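import Groth.Agent.AicLib.Fields
import Groth.Agent.AicLib.NormGlobal
import Groth.Agent.NormSp.Exists
import Groth.Agent.AlgSpDec.GroupScheme
import Groth.Agent.AlgSpDec.ArtinAffine
import Groth.Agent.AlgSpDec.LimDescentDiag
import Groth.Agent.AlgSpDec.LimAffineStage
import Groth.Agent.AlgSpPts.OpenSub
import Groth.Agent.AlgSpLib.FpqcDescent
import Groth.Agent.HensCouple7.Gamma
import Groth.Agent.NormSp.Clopen
import Groth.Agent.QuotLib.CatModuli

/-!
# Quasi-compact quasi-separated algebraic spaces are integral images of schemes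

The normalization of the space in the spectrum of the product of the algebraic closures of the residue fields of
an affine chart is a scheme: its etale charts are Zariski locally monomorphisms, as this holds over the spectrum
of such a product.
-/

set_option autoImplicit false
set_option backward.isDefEq.respectTransparency false
set_option backward.isDefEq.respectTransparency.types false
set_option maxHeartbeats 1000000

universe u

open CategoryTheory CategoryTheory.Limits AlgebraicGeometry Opposite AlgSp Groth.Agent.AlgSpLib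

namespace Groth.Agent.AicLib

variable {S : Scheme.{u}}

/-- A representable etale monomorphism is an open immersion. -/
theorem repWith_openImmersion_of_mono {F G : Sp S} {j : F ⟶ G} (hj : RepWith @Etale j) [Mono j] :
    RepWith @IsOpenImmersion j :=
  ⟨hj.rep, fun X Y g fst snd sq => by
    have : Etale snd.left := hj.property g fst snd sq
    have : Mono ((yon S).map snd) :=
      MorphismProperty.of_isPullback (P := MorphismProperty.monomorphisms _) sq (inferInstanceAs (Mono j))
    have : Mono snd := (yon S).mono_of_mono_map this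
    exact IsOpenImmersion.of_flat_of_mono snd.left⟩

variable [QuasiSeparatedSpace ↥S] {X X' : Sp S} {U T W N : Over S} {b : (yon S).obj U ⟶ X} {π : (yon S).obj T ⟶ X}
  {ν : X' ⟶ X} {f' : (yon S).obj T ⟶ X'} {k : W ⟶ U} {pT : W ⟶ T} {νU : N ⟶ U} {q : (yon S).obj N ⟶ X'} {n : W ⟶ N}

omit [QuasiSeparatedSpace ↥S] in
/-- An open of the chart of the normalization which is injective over the product of fields is an open subspace. -/
theorem mono_piece (hf : f' ≫ ν = π) (sqW : IsPullback ((yon S).map k) ((yon S).map pT) b π)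
    (sqN : IsPullback q ((yon S).map νU) ν b) (hq : RepWith @Etale q) (hn₁ : n ≫ νU = k)
    (hn₂ : (yon S).map n ≫ q = (yon S).map pT ≫ f')
    (hdense : ∀ O : N.left.Opens, (O : Set ↥N.left).Nonempty → ∃ w, n.left w ∈ O)
    [IsAffine N.left] (V : N.left.Opens) [Mono ((n.left ⁻¹ᵁ V).ι ≫ pT.left)] :
    Mono ((yon S).map (Over.homMk V.ι rfl : Over.mk (V.ι ≫ N.hom) ⟶ N) ≫ q) := by
  let V' : Over S := Over.mk (V.ι ≫ N.hom)
  let i : V' ⟶ N := Over.homMk V.ι rfl
  let c : (yon S).obj V' ⟶ X' := (yon S).map i ≫ q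
  have hc : RepWith @Etale c :=
    repWith_comp ((repWith_yon_map_iff _ i).2 (inferInstanceAs (Etale V.ι))) hq
  have sq : IsPullback (hc.rep.fst c) ((yon S).map (hc.rep.snd c)) c c := hc.rep.isPullback c
  let Q := hc.rep.pullback c
  let p₂ : Q ⟶ V' := hc.rep.snd c
  obtain ⟨p₁, hp₁⟩ := (yon S).map_surjective (hc.rep.fst c)
  rw [← hp₁] at sq
  obtain ⟨Δ, hΔ⟩ : ∃ Δ : V' ⟶ Q, Δ ≫ p₁ = 𝟙 V' ∧ Δ ≫ p₂ = 𝟙 V' := by
    obtain ⟨Δ, hΔ⟩ := (yon S).map_surjective (sq.lift (𝟙 _) (𝟙 _) rfl)
    refine ⟨Δ, (yon S).map_injective ?_, (yon S).map_injective ?_⟩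
    · rw [Functor.map_comp, hΔ, sq.lift_fst, CategoryTheory.Functor.map_id]
    · rw [Functor.map_comp, hΔ, sq.lift_snd, CategoryTheory.Functor.map_id]
  have he₁ : Etale p₁.left := hc.property c _ _ sq.flip
  have hQext : ∀ {Z : Over S} (x y : Z ⟶ Q), x ≫ p₁ = y ≫ p₁ → x ≫ p₂ = y ≫ p₂ → x = y := fun x y h₁ h₂ =>
    (yon S).map_injective (sq.hom_ext (by rw [← Functor.map_comp, ← Functor.map_comp, h₁])
      (by rw [← Functor.map_comp, ← Functor.map_comp, h₂]))
  have hΔe : Etale Δ.left := by
    have : Etale (Δ.left ≫ p₁.left) := by rw [← Over.comp_left, hΔ.1]; exact inferInstanceAs (Etale (𝟙 _))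
    exact MorphismProperty.of_postcomp (W' := @Etale) @Etale Δ.left p₁.left he₁ this
  -- the diagonal is surjective
  have hsurj : Function.Surjective Δ.left := by
    by_contra hns
    simp only [Function.Surjective, not_forall, not_exists] at hns
    obtain ⟨r₀, hr₀⟩ := hns
    -- the equalizer of the projections is the image of the diagonal
    have sqΔ : ∀ {Z : Scheme.{u}} (g : Z ⟶ Q.left), g ≫ p₁.left = g ≫ p₂.left →
        g = g ≫ p₁.left ≫ Δ.left := fun {Z} g hg => by
      let Z' : Over S := Over.mk (g ≫ Q.hom)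
      let g' : Z' ⟶ Q := Over.homMk g rfl
      have : g' = (g' ≫ p₁) ≫ Δ := hQext _ _ (by rw [Category.assoc, hΔ.1, Category.comp_id])
        (by rw [Category.assoc, hΔ.2, Category.comp_id]; exact (Over.OverMorphism.ext hg).symm)
      simpa [g'] using congrArg (fun l => l.left) this
    obtain ⟨O, hO, hOr, hΔO⟩ : ∃ O : Q.left.Opens, (O : Set ↥Q.left).Nonempty ∧ r₀ ∈ O ∧
        ∀ o ∈ O, ∀ v, Δ.left v ≠ o := by
      have hRcl : IsClosed (Set.range Δ.left) := by
        have hsep : IsSeparated (pullback.lift p₁.left p₂.left (by rw [Over.w p₁, Over.w p₂]) :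
            Q.left ⟶ pullback V'.hom V'.hom) := by
          have : Mono (pullback.lift p₁.left p₂.left (by rw [Over.w p₁, Over.w p₂]) :
              Q.left ⟶ pullback V'.hom V'.hom) := ⟨fun {Z} x y e => by
            have h₁ := congrArg (· ≫ pullback.fst V'.hom V'.hom) e
            have h₂ := congrArg (· ≫ pullback.snd V'.hom V'.hom) e
            simp only [Category.assoc, pullback.lift_fst, pullback.lift_snd] at h₁ h₂
            have hh : x ≫ Q.hom = y ≫ Q.hom := by rw [← Over.w p₁, ← Category.assoc, h₁, Category.assoc]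
            exact congrArg (fun l => l.left) (hQext (Z := Over.mk (x ≫ Q.hom)) (Over.homMk x rfl)
              (Over.homMk y hh.symm) (by ext; exact h₁) (by ext; exact h₂))⟩
          infer_instance
        -- the first projection is separated
        have : IsSeparated V.ι := inferInstance
        have hp : IsSeparated p₁.left := by
          have h₂ : IsSeparated (pullback.fst V'.hom V'.hom) := by
            have : IsSeparated (V'.hom ≫ terminal.from S) := by
              rw [show V'.hom ≫ terminal.from S = V.ι ≫ terminal.from N.left from terminal.hom_ext _ _]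
              infer_instance
            have : IsSeparated V'.hom := IsSeparated.of_comp V'.hom (terminal.from S)
            infer_instance
          rw [← show pullback.lift p₁.left p₂.left (by rw [Over.w p₁, Over.w p₂]) ≫ pullback.fst V'.hom V'.hom
            = p₁.left from pullback.lift_fst _ _ _]
          infer_instance
        have : IsClosedImmersion (Δ.left ≫ p₁.left) := by
          rw [← Over.comp_left, hΔ.1]; exact inferInstanceAs (IsClosedImmersion (𝟙 _))
        have : IsClosedImmersion Δ.left := IsClosedImmersion.of_comp Δ.left p₁.left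
        exact Δ.left.isClosedEmbedding.isClosed_range
      refine ⟨⟨_, hRcl.isOpen_compl⟩, ⟨r₀, fun ⟨v, hv⟩ => hr₀ v hv⟩, fun ⟨v, hv⟩ => hr₀ v hv,
        fun o ho v hv => ho ⟨v, hv⟩⟩
    -- its image meets the image of the product of fields
    obtain ⟨w, hw⟩ := hdense ⟨V.ι '' (p₁.left '' O), V.ι.isOpenMap _ (p₁.left.isOpenMap _ O.2)⟩
      ((hO.image _).image _)
    obtain ⟨_, ⟨o, ho, rfl⟩, how⟩ := hw
    let NV : W.left.Opens := n.left ⁻¹ᵁ V
    let nV : NV.toScheme ⟶ V.toScheme := n.left ∣_ V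
    have hwV : w ∈ NV := by
      show n.left w ∈ V
      rw [← how]
      exact (p₁.left o).2
    obtain ⟨z, hz₁, hz₂⟩ := Scheme.Pullback.exists_preimage_pullback (f := p₁.left) (g := nV) o ⟨w, hwV⟩ (by
      apply V.ι.isOpenEmbedding.injective
      refine how.trans ?_
      show (NV.ι ≫ n.left) ⟨w, hwV⟩ = (nV ≫ V.ι) ⟨w, hwV⟩
      rw [morphismRestrict_ι])
    let K := (pullback p₁.left nV).residueField z
    let ζ : Spec K ⟶ pullback p₁.left nV := (pullback p₁.left nV).fromSpecResidueField z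
    let g : Spec K ⟶ Q.left := ζ ≫ pullback.fst _ _
    let a : Spec K ⟶ W.left := ζ ≫ pullback.snd _ _ ≫ NV.ι
    let Z : Over S := Over.mk (g ≫ Q.hom)
    let g' : Z ⟶ Q := Over.homMk g rfl
    have haS : a ≫ W.hom = g ≫ Q.hom := by
      show (ζ ≫ pullback.snd _ _ ≫ NV.ι) ≫ W.hom = (ζ ≫ pullback.fst _ _) ≫ Q.hom
      rw [← Over.w n, ← Over.w p₁]
      simp only [Category.assoc]
      rw [show NV.ι ≫ n.left ≫ N.hom = nV ≫ V'.hom by simp [nV, V', NV], pullback.condition_assoc]
    let a' : Z ⟶ W := Over.homMk a haS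
    have ha : a' ≫ n = g' ≫ p₁ ≫ i := Over.OverMorphism.ext (by
      show (ζ ≫ pullback.snd _ _ ≫ NV.ι) ≫ n.left = (ζ ≫ pullback.fst _ _) ≫ p₁.left ≫ V.ι
      simp only [Category.assoc]
      rw [show NV.ι ≫ n.left = nV ≫ V.ι from (morphismRestrict_ι _ _).symm, pullback.condition_assoc])
    -- the second component lifts to the piece
    have hagree : ((yon S).map (g' ≫ p₂ ≫ i ≫ νU)) ≫ b = (yon S).map (a' ≫ pT) ≫ π := by
      have hQ : (yon S).map p₁ ≫ (yon S).map i ≫ q = (yon S).map p₂ ≫ (yon S).map i ≫ q := sq.w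
      calc (yon S).map (g' ≫ p₂ ≫ i ≫ νU) ≫ b
          = (yon S).map g' ≫ (yon S).map p₂ ≫ (yon S).map i ≫ q ≫ ν := by
            simp only [Functor.map_comp, Category.assoc, sqN.w]
        _ = (yon S).map g' ≫ (yon S).map p₁ ≫ (yon S).map i ≫ q ≫ ν := by rw [reassoc_of% hQ]
        _ = (yon S).map (a' ≫ n) ≫ q ≫ ν := by rw [ha]; simp only [Functor.map_comp, Category.assoc]
        _ = (yon S).map (a' ≫ pT) ≫ π := by
            rw [Functor.map_comp, Functor.map_comp, Category.assoc, Category.assoc, reassoc_of% hn₂, hf]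
    obtain ⟨a₂, ha₂⟩ := (yon S).map_surjective (sqW.lift _ _ hagree)
    have ha₂k : a₂ ≫ k = g' ≫ p₂ ≫ i ≫ νU := (yon S).map_injective (by
      rw [Functor.map_comp, ha₂, sqW.lift_fst])
    have ha₂T : a₂ ≫ pT = a' ≫ pT := (yon S).map_injective (by rw [Functor.map_comp, ha₂, sqW.lift_snd])
    have ha₂n : a₂ ≫ n = g' ≫ p₂ ≫ i := (yon S).map_injective (sqN.hom_ext (by
      rw [Functor.map_comp, Category.assoc, hn₂, ← Category.assoc, ← Functor.map_comp, ha₂T, Functor.map_comp,
        Category.assoc, ← hn₂, ← Category.assoc, ← Functor.map_comp, ha]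
      simp only [Functor.map_comp, Category.assoc]
      rw [show (yon S).map p₁ ≫ (yon S).map i ≫ q = (yon S).map p₂ ≫ (yon S).map i ≫ q from sq.w])
      (by rw [← Functor.map_comp, ← Functor.map_comp, Category.assoc, hn₁, ha₂k]; simp only [Category.assoc]))
    have hr : Set.range a₂.left ⊆ Set.range NV.ι := by
      rw [Scheme.Opens.range_ι]
      rintro _ ⟨y, rfl⟩
      show n.left (a₂.left y) ∈ V
      rw [← Scheme.Hom.comp_apply, ← Over.comp_left, ha₂n]
      exact ((g' ≫ p₂).left y).2
    have heq : a₂ = a' := Over.OverMorphism.ext (by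
      rw [← IsOpenImmersion.lift_fac NV.ι a₂.left hr]
      show _ = ζ ≫ pullback.snd _ _ ≫ NV.ι
      rw [← Category.assoc ζ]
      congr 1
      rw [← cancel_mono (NV.ι ≫ pT.left), IsOpenImmersion.lift_fac_assoc]
      simpa [a', a] using congrArg (fun l => l.left) ha₂T)
    have hgg : g ≫ p₁.left = g ≫ p₂.left := by
      rw [← cancel_mono V.ι]
      have := congrArg (fun l => l.left) (ha.symm.trans ((congrArg (· ≫ n) heq.symm).trans ha₂n))
      simpa [g', i] using this
    have hgo : g (IsLocalRing.closedPoint K) = o := by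
      show pullback.fst p₁.left nV (ζ _) = o
      exact (congrArg (fun y => pullback.fst p₁.left nV y) (Scheme.fromSpecResidueField_apply z _)).trans hz₁
    refine hΔO o ho ((g ≫ p₁.left) (IsLocalRing.closedPoint K)) ?_
    rw [← Scheme.Hom.comp_apply, Category.assoc, ← sqΔ g hgg, hgo]
  -- conclusion
  have hΔi : IsIso Δ := by
    have : Mono Δ.left := ⟨fun {Z} x y e => by
      have := congrArg (· ≫ p₁.left) e
      simp only [Category.assoc, ← Over.comp_left, hΔ.1] at this
      simpa using this⟩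
    have : IsOpenImmersion Δ.left := IsOpenImmersion.of_flat_of_mono Δ.left
    have : Surjective Δ.left := ⟨hsurj⟩
    have : IsIso ((Over.forget S).map Δ) := (isIso_iff_isOpenImmersion_and_surjective Δ.left).2 ⟨‹_›, ‹_›⟩
    exact isIso_of_reflects_iso Δ (Over.forget S)
  have hp : p₁ = p₂ := by rw [← cancel_epi Δ, hΔ.1, hΔ.2]
  refine mono_of_yon_injective fun Z x y e => ?_
  obtain ⟨x, rfl⟩ := (yon S).map_surjective x
  obtain ⟨y, rfl⟩ := (yon S).map_surjective y
  have h₁ := sq.lift_fst _ _ e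
  have h₂ := sq.lift_snd _ _ e
  exact h₁.symm.trans ((congrArg (fun z => sq.lift _ _ e ≫ (yon S).map z) hp).trans h₂)


omit [QuasiSeparatedSpace ↥S] in
/-- The chart of the normalization is covered by opens injective over the product of fields. -/
theorem exists_mono_nhd [IsAffine U.left] [IsAffine N.left] [CompactSpace ↥W.left] [QuasiSeparatedSpace ↥W.left]
    [Etale pT.left] [QuasiCompact pT.left] (hT : ∀ ⦃a b : ↥T.left⦄, a ⤳ b → a = b)
    (hres : ∀ t : ↥T.left, IsAlgClosed (T.left.residueField t))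
    (hinj : Function.Injective n.left.appTop.hom)
    (hint : ∀ b, k.left.appTop.hom.IsIntegralElem b → b ∈ Set.range n.left.appTop.hom)
    (hdense : ∀ O : N.left.Opens, (O : Set ↥N.left).Nonempty → ∃ w, n.left w ∈ O) (v : ↥N.left) :
    ∃ V : N.left.Opens, v ∈ V ∧ Mono ((n.left ⁻¹ᵁ V).ι ≫ pT.left) := by
  choose Nw hwN hcl hmono using exists_clopen_mono pT.left hT hres
  choose ε hε hεN using fun w => HensCouple7.exists_idempotent_of_isClopen
    (show IsClopen (Nw w : Set ↥W.left) from ⟨hcl w, (Nw w).2⟩)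
  have hεint : ∀ w, k.left.appTop.hom.IsIntegralElem (ε w) := fun w =>
    ⟨Polynomial.X ^ 2 - Polynomial.X, Polynomial.monic_X_pow_sub (lt_of_le_of_lt Polynomial.degree_X_le (by decide)), by simp [sq, hε w]⟩
  choose e he using fun w => hint (ε w) (hεint w)
  have hee : ∀ w, e w * e w = e w := fun w => hinj (by rw [map_mul, he, hε])
  have hpre : ∀ w, n.left ⁻¹ᵁ N.left.basicOpen (e w) = Nw w := fun w => by
    rw [Scheme.preimage_basicOpen_top, he]
    exact TopologicalSpace.Opens.ext (hεN w)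
  obtain ⟨t, ht⟩ := (isCompact_univ (X := ↥W.left)).elim_finite_subcover (fun w => (Nw w : Set ↥W.left))
    (fun w => (Nw w).2) (fun w _ => Set.mem_iUnion.2 ⟨w, hwN w⟩)
  by_cases hv : ∃ w ∈ t, v ∈ N.left.basicOpen (e w)
  · obtain ⟨w, -, hw⟩ := hv
    refine ⟨N.left.basicOpen (e w), hw, ?_⟩
    rw [hpre]
    exact hmono w
  · exfalso
    let O : N.left.Opens := t.inf fun w => N.left.basicOpen (1 - e w)
    have h01 : ∀ w, N.left.basicOpen (e w) ⊓ N.left.basicOpen (1 - e w) = ⊥ := fun w => by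
      rw [← Scheme.basicOpen_mul, mul_sub, mul_one, hee, sub_self]
      exact Scheme.basicOpen_zero _ _
    have hvO : v ∈ O := by
      refine Finset.inf_induction (p := fun O : N.left.Opens => v ∈ O) trivial (fun a ha b hb => ⟨ha, hb⟩)
        fun w hw => ?_
      by_contra h
      apply hv
      refine ⟨w, hw, ?_⟩
      have hu : IsUnit (N.left.presheaf.germ ⊤ v trivial (e w)) ∨
          IsUnit (N.left.presheaf.germ ⊤ v trivial (1 - e w)) := by
        refine IsLocalRing.isUnit_or_isUnit_of_add_one ?_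
        rw [← map_add, add_sub_cancel, map_one]
      rw [Scheme.mem_basicOpen _ _ _ (TopologicalSpace.Opens.mem_top v)] at h ⊢
      exact hu.resolve_right h
    obtain ⟨w', hw'⟩ := hdense O ⟨v, hvO⟩
    obtain ⟨w, hw, hwW⟩ := Set.mem_iUnion₂.1 (ht (Set.mem_univ w'))
    have h₁ : n.left w' ∈ N.left.basicOpen (e w) := by
      have : w' ∈ n.left ⁻¹ᵁ N.left.basicOpen (e w) := by rw [hpre]; exact hwW
      exact this
    have h₂ : n.left w' ∈ N.left.basicOpen (e w) ⊓ N.left.basicOpen (1 - e w) :=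
      ⟨h₁, (Finset.inf_le hw : O ≤ N.left.basicOpen (1 - e w)) hw'⟩
    rw [h01] at h₂
    exact h₂

omit [QuasiSeparatedSpace ↥S] in
/-- The spectrum of the product of the algebraic closures of the residue fields covers an affine scheme. -/
theorem exists_product_cover (U : Over S) [IsAffine U.left] :
    ∃ (T : Over S) (t : T ⟶ U), IsAffine T.left ∧ Function.Surjective t.left ∧
      (∀ ⦃a b : ↥T.left⦄, a ⤳ b → a = b) ∧ ∀ x : ↥T.left, IsAlgClosed (T.left.residueField x) := by
  let K : ↥U.left → Type u := fun u => AlgebraicClosure (U.left.residueField u)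
  let f : ∀ u, Spec (CommRingCat.of (K u)) ⟶ U.left := fun u =>
    Spec.map (CommRingCat.ofHom (algebraMap (U.left.residueField u) (K u))) ≫ U.left.fromSpecResidueField u
  let φ : Γ(U.left, ⊤) ⟶ CommRingCat.of (∀ u, K u) := CommRingCat.ofHom
    (RingHom.pi fun u => ((f u).appTop ≫ (Scheme.ΓSpecIso (CommRingCat.of (K u))).hom).hom)
  let t₀ : Spec (CommRingCat.of (∀ u, K u)) ⟶ U.left := Spec.map φ ≫ U.left.isoSpec.inv
  have hsurj : Function.Surjective t₀ := fun u => by
    have hf : Spec.map (CommRingCat.ofHom (Pi.evalRingHom K u)) ≫ t₀ = f u := by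
      show Spec.map _ ≫ Spec.map φ ≫ _ = _
      rw [← Category.assoc, ← Spec.map_comp, Iso.comp_inv_eq]
      have : φ ≫ CommRingCat.ofHom (Pi.evalRingHom K u) =
          (f u).appTop ≫ (Scheme.ΓSpecIso (CommRingCat.of (K u))).hom := rfl
      rw [this, Spec.map_comp, Scheme.isoSpec_hom, SpecMap_ΓSpecIso_hom, ← Scheme.toSpecΓ_naturality]
    refine ⟨Spec.map (CommRingCat.ofHom (Pi.evalRingHom K u)) (IsLocalRing.closedPoint (K u)), ?_⟩
    rw [← Scheme.Hom.comp_apply, hf]
    exact Scheme.fromSpecResidueField_apply u _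
  let T : Over S := Over.mk (t₀ ≫ U.hom)
  refine ⟨T, Over.homMk t₀ rfl, inferInstanceAs (IsAffine (Spec (CommRingCat.of (∀ u, K u)))), hsurj,
    fun a b h => eq_of_specializes_pi h, fun x => isAlgClosed_residueField_pi K x⟩

/-- A quasi-compact quasi-separated algebraic space is the image of a scheme by an integral morphism which
factors through a given chart locally. -/
theorem exists_scheme_integral {X : Sp S} (hX : IsAlgSpace X) (hqc : IsQuasiCompactSp X)
    (hqs : IsQuasiSeparatedSp X) {U₀ : Over S} (b₀ : (yon S).obj U₀ ⟶ X) (hb₀ : RepWith @Etale b₀)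
    (hbs₀ : RepWith @Surjective b₀) :
    ∃ (Y : Over S) (g : (yon S).obj Y ⟶ X), RepWith @IsIntegralHom g ∧ RepWith @Surjective g ∧
      ∀ y : ↥Y.left, ∃ (O : Y.left.Opens) (c : Over.mk (O.ι ≫ Y.hom) ⟶ U₀), y ∈ O ∧
        (yon S).map c ≫ b₀ = (yon S).map (Over.homMk O.ι rfl : Over.mk (O.ι ≫ Y.hom) ⟶ Y) ≫ g := by
  -- an affine chart through the given one
  have : CompactSpace (Points X) := compactSpace_points hqc
  obtain ⟨s, hs⟩ := (isCompact_univ (X := Points X)).elim_finite_subcover
    (fun K : U₀.left.affineOpens => Points.ofPt b₀ '' (K.1 : Set U₀.left))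
    (fun K => isOpenMap_ofPt hb₀ _ K.1.2) fun x _ => by
      obtain ⟨w, rfl⟩ := surjective_ofPt hbs₀ x
      obtain ⟨K, hK, hw, -⟩ := exists_isAffineOpen_mem_and_subset (U := (⊤ : U₀.left.Opens)) (x := w) trivial
      exact Set.mem_iUnion.2 ⟨⟨K, hK⟩, w, hw, rfl⟩
  let Wk : ↥s → U₀.left.Opens := fun k => k.1.1
  have : ∀ k, IsAffine (Wk k).toScheme := fun k => k.1.2
  let jW : (∐ fun k => (Wk k).toScheme) ⟶ U₀.left := Sigma.desc fun k => (Wk k).ι
  have : Etale jW := AlgSpDec.etale_sigma_desc Wk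
  let U : Over S := Over.mk (jW ≫ U₀.hom)
  have : IsAffine U.left := inferInstanceAs (IsAffine (∐ fun k => (Wk k).toScheme))
  let c₀ : U ⟶ U₀ := Over.homMk jW rfl
  let b : (yon S).obj U ⟶ X := (yon S).map c₀ ≫ b₀
  have hb : RepWith @Etale b := repWith_comp ((repWith_yon_map_iff _ _).2 (inferInstanceAs (Etale jW))) hb₀
  have hbs : RepWith @Surjective b := repWith_surjective_of_surjective hb.rep fun x => by
    obtain ⟨K, hK, w, hw, rfl⟩ := Set.mem_iUnion₂.1 (hs (Set.mem_univ x))
    refine ⟨Points.ofScheme _ (Sigma.ι (fun k => (Wk k).toScheme) ⟨K, hK⟩ ⟨w, hw⟩), ?_⟩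
    rw [← Points.ofPt_eq_map_ofScheme, ofPt_comp]
    show Points.ofPt b₀ (jW _) = _
    rw [← Scheme.Hom.comp_apply, Sigma.ι_desc]
    rfl
  -- the product of fields and the normalization
  obtain ⟨T, t, hTA, htsurj, hTspec, hTres⟩ := exists_product_cover U
  let π : (yon S).obj T ⟶ X := (yon S).map t ≫ b
  have : CompactSpace ↥T.left := inferInstance
  have hTqs : IsQuasiSeparatedSp ((yon S).obj T) := by
    rw [AlgSpDec.isQuasiSeparatedSp_yon_iff']
    have : QuasiSeparated (T.hom ≫ terminal.from S) := by rw [terminal.comp_from]; infer_instance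
    exact QuasiSeparated.of_comp T.hom (terminal.from S)
  have hπqc : IsQuasiCompactMor π :=
    AlgSpPts.isQuasiCompactMor_of_qc_qs (IsAlgSpace.yon_obj T) hX (isQuasiCompactSp_yon T) hqs π
  have hπqs : IsQuasiSeparatedMor π := AlgSpDec.isQuasiSeparatedMor_of_sp π hTqs hqs
  obtain ⟨X', ν, f', hX', hUN⟩ := NormSp.exists_isUN (IsAlgSpace.yon_obj T) hX π hπqc hπqs
  have hν : RepWith @IsIntegralHom ν := AlgSpDec.isIntegralMor_iff_repWith.1 hUN.integral
  obtain ⟨N, q, νU, sqN, hνU⟩ : ∃ (N : Over S) (q : (yon S).obj N ⟶ X') (νU : N ⟶ U),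
      IsPullback q ((yon S).map νU) ν b ∧ IsIntegralHom νU.left :=
    ⟨_, _, _, hν.rep.isPullback b, hν.property_snd b⟩
  have : IsAffine N.left := isAffine_of_isAffineHom νU.left
  obtain ⟨W, k, pT, sqW, hpTe⟩ : ∃ (W : Over S) (k : W ⟶ U) (pT : W ⟶ T),
      IsPullback ((yon S).map k) ((yon S).map pT) b π ∧ Etale pT.left := by
    obtain ⟨k, hk⟩ := (yon S).map_surjective (hb.rep.fst π)
    refine ⟨_, k, hb.rep.snd π, ?_, hb.property_snd π⟩
    rw [hk]
    exact hb.rep.isPullback π
  have hqcp : QuasiCompact pT.left := AlgSpDec.quasiCompact_fibreProd hqs sqW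
  have : CompactSpace ↥W.left := QuasiCompact.compactSpace_of_compactSpace pT.left
  have : QuasiSeparatedSpace ↥W.left := by
    let m : W.left ⟶ pullback (terminal.from U.left) (terminal.from T.left) :=
      pullback.lift k.left pT.left (terminal.hom_ext _ _)
    have : Mono m := ⟨fun {Z} x y e => by
      have h₁ : x ≫ k.left = y ≫ k.left := by
        have := congrArg (· ≫ pullback.fst (terminal.from U.left) (terminal.from T.left)) e
        simpa [m] using this
      have h₂ : x ≫ pT.left = y ≫ pT.left := by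
        have := congrArg (· ≫ pullback.snd (terminal.from U.left) (terminal.from T.left)) e
        simpa [m] using this
      have hh : x ≫ W.hom = y ≫ W.hom := by rw [← Over.w pT, ← Category.assoc, h₂, Category.assoc]
      refine congrArg (fun l => l.left) ((yon S).map_injective (sqW.hom_ext ?_ ?_) :
        (Over.homMk x rfl : Over.mk (x ≫ W.hom) ⟶ W) = Over.homMk y hh.symm) <;>
      · rw [← Functor.map_comp, ← Functor.map_comp]
        exact congrArg _ (Over.OverMorphism.ext (by assumption))⟩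
    exact quasiSeparatedSpace_of_quasiSeparated m
  obtain ⟨n, hn⟩ := (yon S).map_surjective (sqN.lift ((yon S).map pT ≫ f') ((yon S).map k)
    (by rw [Category.assoc, hUN.fac, sqW.w]))
  have hn₁ : n ≫ νU = k := (yon S).map_injective (by rw [Functor.map_comp, hn, sqN.lift_snd])
  have hn₂ : (yon S).map n ≫ q = (yon S).map pT ≫ f' := by rw [hn, sqN.lift_fst]
  have hnorm : IsRelNormalization ((yon S).map k) ((yon S).map νU) ((yon S).map n) :=
    hUN.bc ‹IsAffine U.left› b (NormSp.smooth_of_etale hb) ((yon S).map pT) ((yon S).map k) q ((yon S).map νU)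
      ((yon S).map n) sqW.flip sqN (by rw [← Functor.map_comp, hn₁]) hn₂
  obtain ⟨hinj, hint⟩ := norm_appTop k νU n hnorm
  have hdense : ∀ O : N.left.Opens, (O : Set ↥N.left).Nonempty → ∃ w, n.left w ∈ O := by
    rintro O ⟨v, hv⟩
    obtain ⟨_, ⟨_, ⟨f, rfl⟩, rfl⟩, hvf, hfO⟩ :=
      (isBasis_basicOpen N.left).exists_subset_of_mem_open hv O.2
    by_contra hno
    have h0 : W.left.basicOpen (n.left.appTop.hom f) = ⊥ := by
      rw [← Scheme.preimage_basicOpen_top]
      refine eq_bot_iff.2 fun w hw => hno ⟨w, hfO hw⟩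
    have hnil := Scheme.isNilpotent_iff_basicOpen_eq_bot_of_isCompact (U := (⊤ : W.left.Opens))
      isCompact_univ (n.left.appTop.hom f) |>.2 h0
    have : IsNilpotent f := by
      obtain ⟨m, hm⟩ := hnil
      exact ⟨m, hinj (by rw [map_pow, hm, map_zero])⟩
    rw [(Scheme.isNilpotent_iff_basicOpen_eq_bot_of_isCompact (U := (⊤ : N.left.Opens)) isCompact_univ f).1 this] at hvf
    exact hvf
  have hqe : RepWith @Etale q := repWith_of_isPullback sqN.flip hb
  have hqs' : RepWith @Surjective q := repWith_of_isPullback sqN.flip hbs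
  have hpiece : ∀ v : ↥N.left, ∃ (V : N.left.Opens), v ∈ V ∧ RepWith @IsOpenImmersion
      ((yon S).map (Over.homMk V.ι rfl : Over.mk (V.ι ≫ N.hom) ⟶ N) ≫ q) := fun v => by
    obtain ⟨V, hvV, hV⟩ := exists_mono_nhd (pT := pT) (k := k) (n := n) hTspec hTres hinj hint hdense v
    refine ⟨V, hvV, ?_⟩
    have := hV
    have := mono_piece hUN.fac sqW sqN hqe hn₁ hn₂ hdense V
    exact repWith_openImmersion_of_mono
      (repWith_comp ((repWith_yon_map_iff _ _).2 (inferInstanceAs (Etale V.ι))) hqe)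
  -- the normalization is a scheme
  have hcover : ∀ x : Points X', ∃ (Z : Over S) (j : (yon S).obj Z ⟶ X') (c : Z ⟶ U), RepWith @IsOpenImmersion j ∧
      x ∈ Set.range (Points.map j) ∧ j ≫ ν = (yon S).map c ≫ b := fun x => by
    obtain ⟨v, rfl⟩ := surjective_ofPt hqs' x
    obtain ⟨V, hvV, hj⟩ := hpiece v
    refine ⟨_, _, (Over.homMk V.ι rfl : Over.mk (V.ι ≫ N.hom) ⟶ N) ≫ νU, hj,
      ⟨Points.ofScheme _ ⟨v, hvV⟩, ?_⟩, ?_⟩
    · rw [← Points.ofPt_eq_map_ofScheme, ofPt_comp]
      rfl
    · rw [Category.assoc, sqN.w, Functor.map_comp, Category.assoc]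
  obtain ⟨Y, ⟨e⟩⟩ := QuotLib.exists_iso_yon (AlgSpDec.GroupScheme.isRepresentable_of_nhds hX'
    fun x => let ⟨Z, j, _, h₁, h₂, _⟩ := hcover x; ⟨Z, j, h₁, h₂⟩)
  refine ⟨Y, e.hom ≫ ν, repWith_comp (repWith_of_isIso _ _) hν,
    repWith_surjective_of_surjective (repWith_comp (repWith_of_isIso @IsIntegralHom _) hν).rep fun x => ?_,
    fun y => ?_⟩
  · obtain ⟨u, rfl⟩ := surjective_ofPt hbs x
    obtain ⟨z, rfl⟩ := htsurj u
    refine ⟨Points.map (f' ≫ e.inv) (Points.ofScheme T z), ?_⟩
    rw [← Points.map_comp, Category.assoc, Iso.inv_hom_id_assoc, hUN.fac, ← Points.ofPt_eq_map_ofScheme,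
      ofPt_comp]
  · obtain ⟨Z, j, c, hj, hyj, hjc⟩ := hcover (Points.ofPt e.hom y)
    let R := hj.rep.pullback e.hom
    let r : R ⟶ Y := hj.rep.snd e.hom
    have : IsOpenImmersion r.left := hj.property_snd e.hom
    obtain ⟨l, hl⟩ := (yon S).map_surjective (hj.rep.fst e.hom)
    let O := r.left.opensRange
    let ψ : Over.mk (O.ι ≫ Y.hom) ⟶ R := Over.homMk r.left.isoOpensRange.inv (by
      show r.left.isoOpensRange.inv ≫ R.hom = O.ι ≫ Y.hom
      rw [← Over.w r, ← Category.assoc, Scheme.Hom.isoOpensRange_inv_comp])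
    have hψ : ψ ≫ r = Over.homMk O.ι rfl :=
      Over.OverMorphism.ext (Scheme.Hom.isoOpensRange_inv_comp r.left)
    refine ⟨O, ψ ≫ l ≫ c ≫ c₀, (NormSp.ofPt_mem_range_iff (hj.rep.isPullback e.hom) y).1 hyj, ?_⟩
    calc (yon S).map (ψ ≫ l ≫ c ≫ c₀) ≫ b₀
        = (yon S).map ψ ≫ hj.rep.fst e.hom ≫ j ≫ ν := by
          simp only [Functor.map_comp, Category.assoc, hjc, hl]
          try rfl
      _ = (yon S).map ψ ≫ (yon S).map r ≫ e.hom ≫ ν := by rw [← Category.assoc (hj.rep.fst e.hom), hj.rep.w,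
            Category.assoc]
      _ = (yon S).map (Over.homMk O.ι rfl) ≫ e.hom ≫ ν := by rw [← Category.assoc, ← Functor.map_comp, hψ]

end Groth.Agent.AicLib
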