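import Groth.Agent.AlgSpDec.HomToAffine
import Groth.Agent.AlgSpDec.LimDescent
import Groth.Agent.AlgSpLib.Rep
import Groth.Agent.AlgSpLib.Points
import Groth.Agent.GrpSchLib.AntiAffineBC

/-!
# Functions on a universally closed space over an affine scheme are integral

For a function `a` the closed set `aT = 1` has closed image in the affine line of the base, which misses the
zero section; a function vanishing on it gives the monic equation.
-/

set_option autoImplicit false
set_option backward.isDefEq.respectTransparency false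
set_option backward.isDefEq.respectTransparency.types false
set_option maxHeartbeats 1000000

universe u

open CategoryTheory CategoryTheory.Limits AlgebraicGeometry Opposite AlgSp Groth.Agent.AlgSpLib Polynomial

namespace Groth.Agent.AicLib

variable {S : Scheme.{u}}

/-- The value of a global function on an etale chart. -/
noncomputable def evSect {X : Sp S} (E : EtOver X) (s : ↥(gsectEt (OEt X))) : Γ(E.obj.left.left, ⊤) :=
  ((limit.π (OEt X).obj (op E)) s).down

theorem evSect_map {X : Sp S} {E E' : EtOver X} (k : E ⟶ E') (s : ↥(gsectEt (OEt X))) :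
    k.hom.left.left.appTop.hom (evSect E' s) = evSect E s :=
  congrArg ULift.down (congrArg (fun m => m s) (limit.w (OEt X).obj k.op))

theorem appTop_SpecMap_apply {A B : CommRingCat.{u}} (φ : A ⟶ B) (x : A) :
    (Spec.map φ).appTop ((Scheme.ΓSpecIso A).inv x) = (Scheme.ΓSpecIso B).inv (φ x) :=
  (ConcreteCategory.congr_hom (Scheme.ΓSpecIso_inv_naturality φ) x).symm

/-- A polynomial whose value at the inverse of an element is nilpotent gives a monic equation. -/
theorem exists_monic_of_inverse {R B : Type u} [CommRing R] [CommRing B] (ι : R →+* B) (a : B) (g : R[X])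
    (hg : g.coeff 0 = 1)
    (hn : IsNilpotent (g.eval₂ ((algebraMap B (Localization.Away a)).comp ι) (IsLocalization.Away.invSelf a))) :
    ∃ p : R[X], p.Monic ∧ p.eval₂ ι a = 0 := by
  obtain ⟨N, hN⟩ := hn
  rw [← Polynomial.eval₂_pow] at hN
  have hq : (g ^ N).coeff 0 = 1 := by rw [Polynomial.coeff_zero_eq_eval_zero, Polynomial.eval_pow,
    ← Polynomial.coeff_zero_eq_eval_zero, hg, one_pow]
  generalize g ^ N = q at hN hq
  rcases subsingleton_or_nontrivial R with hR | hR
  · have : (1 : B) = 0 := by rw [← ι.map_one, Subsingleton.elim (1 : R) 0, map_zero]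
    exact ⟨1, Polynomial.monic_one, by rw [Polynomial.eval₂_one, this]⟩
  have hlead : q.reverse.Monic := by
    rw [Polynomial.Monic, Polynomial.reverse_leadingCoeff, Polynomial.trailingCoeff,
      Polynomial.natTrailingDegree_eq_zero.2 (Or.inr (by rw [hq]; exact one_ne_zero)), hq]
  let x : Localization.Away a := IsLocalization.Away.invSelf a
  have hx : algebraMap B (Localization.Away a) a * x = 1 := IsLocalization.Away.mul_invSelf a
  let _ : Invertible x := ⟨algebraMap B (Localization.Away a) a, hx, by rw [mul_comm]; exact hx⟩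
  have h := Polynomial.eval₂_reverse_mul_pow ((algebraMap B (Localization.Away a)).comp ι) x q
  rw [hN, show ⅟x = algebraMap B (Localization.Away a) a from rfl, ← Polynomial.hom_eval₂] at h
  have hu : IsUnit (x ^ q.natDegree) := (isUnit_of_invertible x).pow _
  have h0 : algebraMap B (Localization.Away a) (q.reverse.eval₂ ι a) = 0 := hu.mul_left_eq_zero.1 h
  obtain ⟨⟨_, m, rfl⟩, hm⟩ :=
    (IsLocalization.map_eq_zero_iff (Submonoid.powers a) (Localization.Away a) _).1 h0
  exact ⟨Polynomial.X ^ m * q.reverse, (Polynomial.monic_X_pow m).mul hlead, by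
    rw [Polynomial.eval₂_mul, Polynomial.eval₂_pow, Polynomial.eval₂_X]; exact hm⟩

/-- Global functions on a quasi-compact universally closed space over an affine scheme satisfy monic
equations. -/
theorem exists_monic_of_univClosed (V : Over S) [IsAffine V.left] {X : Sp S} (hX : IsAlgSpace X)
    (f : X ⟶ (yon S).obj V) (hqc : IsQuasiCompactMor f) (huc : IsUnivClosedMor f) (s : ↥(gsectEt (OEt X))) :
    ∃ p : Polynomial Γ(V.left, ⊤), p.Monic ∧ ∀ E : EtOver X,
      Polynomial.eval₂ ((yon S).preimage (E.obj.hom ≫ f)).left.appTop.hom (evSect E s) p = 0 := by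
  have hXqc : IsQuasiCompactSp X :=
    hqc (IsAlgSpace.yon_obj V) (isQuasiCompactSp_yon V) (𝟙 _) (𝟙 X) f (IsPullback.of_horiz_isIso ⟨by simp⟩)
  obtain ⟨U, p₀, hUA, hp, hps⟩ := AlgSpDec.exists_affine_atlas hXqc
  have : IsAffine U.left := hUA
  let E₀ : EtOver X := EtOver.mk p₀ hp
  let a : Γ(U.left, ⊤) := evSect E₀ s
  let g₀ : U ⟶ V := (yon S).preimage (p₀ ≫ f)
  have hg₀ : (yon S).map g₀ = p₀ ≫ f := (yon S).map_preimage _
  -- the affine line over the base
  let RT : CommRingCat.{u} := CommRingCat.of Γ(V.left, ⊤)[X]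
  let δ₀ : Spec RT ⟶ V.left := Spec.map (CommRingCat.ofHom Polynomial.C) ≫ V.left.isoSpec.inv
  let A : Over S := Over.mk (δ₀ ≫ V.hom)
  let δ : A ⟶ V := Over.homMk δ₀ rfl
  have : IsAffine A.left := inferInstanceAs (IsAffine (Spec RT))
  let tT : Γ(A.left, ⊤) := (Scheme.ΓSpecIso RT).inv Polynomial.X
  let sqP := IsPullback.of_hasPullback f ((yon S).map δ)
  have hclosed : IsClosedMap (Points.map (pullback.snd f ((yon S).map δ))) :=
    huc (IsAlgSpace.yon_obj A) _ _ _ sqP
  let Q := pullback g₀ δ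
  let q₁ : Q ⟶ U := pullback.fst g₀ δ
  let q₂ : Q ⟶ A := pullback.snd g₀ δ
  let qP : (yon S).obj Q ⟶ pullback f ((yon S).map δ) := pullback.lift ((yon S).map q₁ ≫ p₀) ((yon S).map q₂)
    (by rw [Category.assoc, ← hg₀, ← Functor.map_comp, ← Functor.map_comp, pullback.condition])
  have sqQ : IsPullback ((yon S).map q₁) qP p₀ (pullback.fst f ((yon S).map δ)) := by
    refine IsPullback.of_bot ?_ (pullback.lift_fst _ _ _).symm sqP
    rw [pullback.lift_snd, ← hg₀]
    exact (IsPullback.of_hasPullback g₀ δ).map (yon S)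
  have hqP : RepWith @Etale qP := repWith_of_isPullback sqQ hp
  have hqP' : RepWith @Surjective qP := repWith_of_isPullback sqQ hps
  let α : Γ(Q.left, ⊤) := q₁.left.appTop a * q₂.left.appTop tT - 1
  -- the equation is invariant
  have hsat : ∀ z₁ z₂ : ↥Q.left, Points.ofPt qP z₁ = Points.ofPt qP z₂ → z₁ ∈ Q.left.basicOpen α →
      z₂ ∈ Q.left.basicOpen α := fun z₁ z₂ e hz => by
    obtain ⟨z, hz₁, hz₂⟩ := exists_ofPt_of_eq (hqP.rep.isPullback' qP) e
    let r₁ := hqP.rep.fst' qP
    let r₂ := hqP.rep.snd qP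
    have hr : (yon S).map r₁ ≫ qP = (yon S).map r₂ ≫ qP := (hqP.rep.isPullback' qP).w
    have hA : (r₁ ≫ q₂).left.appTop tT = (r₂ ≫ q₂).left.appTop tT := by
      have h := congrArg (· ≫ pullback.snd f ((yon S).map δ)) hr
      simp only [Category.assoc, qP, pullback.lift_snd, ← Functor.map_comp] at h
      rw [(yon S).map_injective h]
    have hX' : (yon S).map (r₁ ≫ q₁) ≫ p₀ = (yon S).map (r₂ ≫ q₁) ≫ p₀ := by
      have h := congrArg (· ≫ pullback.fst f ((yon S).map δ)) hr
      simp only [Category.assoc, qP, pullback.lift_fst] at h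
      simpa only [Functor.map_comp, Category.assoc] using h
    let W := hp.rep.pullback p₀
    have : Etale (hp.rep.snd p₀).left := hp.property_snd p₀
    let E₁ : EtOver X := EtOver.mk ((yon S).map (hp.rep.snd p₀) ≫ p₀)
      (repWith_comp ((repWith_yon_map_iff _ _).2 this) hp)
    let k₁ : E₁ ⟶ E₀ := EtOver.homMk (hp.rep.fst' p₀) (hp.rep.isPullback' p₀).w
    let k₂ : E₁ ⟶ E₀ := EtOver.homMk (hp.rep.snd p₀) rfl
    have hk : (hp.rep.fst' p₀).left.appTop a = (hp.rep.snd p₀).left.appTop a :=
      (evSect_map k₁ s).trans (evSect_map k₂ s).symm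
    have ha : (r₁ ≫ q₁).left.appTop a = (r₂ ≫ q₁).left.appTop a := by
      let l := hp.rep.lift' (r₁ ≫ q₁) (r₂ ≫ q₁) hX'
      rw [show r₁ ≫ q₁ = l ≫ hp.rep.fst' p₀ from (hp.rep.lift'_fst _ _ _).symm,
        show r₂ ≫ q₁ = l ≫ hp.rep.snd p₀ from (hp.rep.lift'_snd _ _ _).symm]
      simp only [Over.comp_left, Scheme.Hom.comp_appTop, CommRingCat.comp_apply, hk]
    have heq : r₁.left.appTop α = r₂.left.appTop α := by
      simp only [Over.comp_left, Scheme.Hom.comp_appTop, CommRingCat.comp_apply] at ha hA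
      simp only [α, map_sub, map_mul, map_one, ha, hA]
    have h₁ : z ∈ r₁.left ⁻¹ᵁ Q.left.basicOpen α := by
      refine (Scheme.Hom.mem_preimage (f := r₁.left) (U := Q.left.basicOpen α)).2 ?_
      rw [hz₁]; exact hz
    rw [Scheme.preimage_basicOpen_top, heq, ← Scheme.preimage_basicOpen_top] at h₁
    have h₂ : r₂.left z ∈ Q.left.basicOpen α := h₁
    rwa [hz₂] at h₂
  let C : Set (Points (pullback f ((yon S).map δ))) := Points.ofPt qP '' (Q.left.basicOpen α : Set ↥Q.left)ᶜ
  have hC : IsClosed C := by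
    rw [← isOpen_compl_iff]
    have : Cᶜ = Points.ofPt qP '' (Q.left.basicOpen α : Set ↥Q.left) := Set.ext fun x => by
      obtain ⟨z, rfl⟩ := surjective_ofPt hqP' x
      constructor
      · intro hx
        refine ⟨z, ?_, rfl⟩
        by_contra hz
        exact hx ⟨z, hz, rfl⟩
      · rintro ⟨z', hz', e⟩ ⟨z'', hz'', e'⟩
        exact hz'' (hsat z' z'' (e.trans e'.symm) hz')
    rw [this]
    exact isOpenMap_ofPt hqP _ (Q.left.basicOpen α).2
  let Im : Set ↥A.left := q₂.left '' (Q.left.basicOpen α : Set ↥Q.left)ᶜ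
  have hIm : IsClosed Im := by
    have h := (hclosed C hC).preimage (Points.schemeHomeo A).continuous
    convert h using 1
    ext x
    constructor
    · rintro ⟨z, hz, rfl⟩
      refine ⟨_, ⟨z, hz, rfl⟩, ?_⟩
      rw [Points.map_ofPt, pullback.lift_snd, ← Category.comp_id ((yon S).map q₂), ofPt_comp]
      rfl
    · rintro ⟨_, ⟨z, hz, rfl⟩, e⟩
      refine ⟨z, hz, (Points.schemeHomeo A).injective (Eq.trans ?_ e)⟩
      rw [Points.map_ofPt, pullback.lift_snd, ← Category.comp_id ((yon S).map q₂), ofPt_comp]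
      rfl
  -- the image misses the zero section
  have hmiss : ∀ x ∈ Im, Polynomial.X ∉ PrimeSpectrum.asIdeal (R := RT) x := by
    rintro _ ⟨z, hz, rfl⟩
    have hz' : z ∈ q₂.left ⁻¹ᵁ A.left.basicOpen tT := by
      rw [Scheme.preimage_basicOpen_top, Scheme.mem_basicOpen _ _ _ (TopologicalSpace.Opens.mem_top z)]
      rw [Set.mem_compl_iff, SetLike.mem_coe, Scheme.mem_basicOpen _ _ _ (TopologicalSpace.Opens.mem_top z)] at hz
      have hu : IsUnit (Q.left.presheaf.germ ⊤ z trivial (q₁.left.appTop a * q₂.left.appTop tT)) ∨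
          IsUnit (- Q.left.presheaf.germ ⊤ z trivial α) :=
        IsLocalRing.isUnit_or_isUnit_of_add_one (by
          simp only [α, map_sub, map_one]
          ring)
      rw [IsUnit.neg_iff] at hu
      have := hu.resolve_right hz
      rw [map_mul] at this
      exact isUnit_of_mul_isUnit_right this
    have : q₂.left z ∈ (Spec RT).basicOpen ((Scheme.ΓSpecIso RT).inv Polynomial.X) := hz'
    rw [basicOpen_eq_of_affine] at this
    exact this
  -- a function vanishing on the image
  let I : Ideal RT := PrimeSpectrum.vanishingIdeal (Im : Set (PrimeSpectrum RT))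
  have htop : I ⊔ Ideal.span {(Polynomial.X : RT)} = ⊤ := by
    rw [← PrimeSpectrum.zeroLocus_empty_iff_eq_top, PrimeSpectrum.zeroLocus_sup]
    refine Set.eq_empty_iff_forall_notMem.2 fun x ⟨h₁, h₂⟩ => ?_
    have h₁' : x ∈ PrimeSpectrum.zeroLocus (PrimeSpectrum.vanishingIdeal (Im : Set (PrimeSpectrum RT)) : Set RT) := h₁
    rw [PrimeSpectrum.zeroLocus_vanishingIdeal_eq_closure, hIm.closure_eq] at h₁'
    exact hmiss x h₁' (h₂ (Ideal.subset_span rfl))
  obtain ⟨g, hg, h', hh', hgh⟩ := Submodule.mem_sup.1 ((Ideal.eq_top_iff_one _).1 htop)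
  obtain ⟨h, rfl⟩ := Ideal.mem_span_singleton'.1 hh'
  have hg0 : g.coeff 0 = 1 := by
    have h1 : (g + h * Polynomial.X : Γ(V.left, ⊤)[X]).coeff 0 = (1 : Γ(V.left, ⊤)[X]).coeff 0 :=
      congrArg (fun P : Γ(V.left, ⊤)[X] => P.coeff 0) hgh
    rw [Polynomial.coeff_add, Polynomial.mul_coeff_zero, Polynomial.coeff_X_zero, mul_zero, add_zero,
      Polynomial.coeff_one_zero] at h1
    exact h1
  -- its pullback is nilpotent
  let ι₀ : Γ(V.left, ⊤) →+* Γ(U.left, ⊤) := g₀.left.appTop.hom
  let Ba : CommRingCat.{u} := CommRingCat.of (Localization.Away a)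
  let alg : CommRingCat.of Γ(U.left, ⊤) ⟶ Ba := CommRingCat.ofHom (algebraMap Γ(U.left, ⊤) (Localization.Away a))
  let ψ : RT ⟶ Ba := CommRingCat.ofHom (Polynomial.eval₂RingHom (alg.hom.comp ι₀)
    (IsLocalization.Away.invSelf a : Localization.Away a))
  have hψC : CommRingCat.ofHom Polynomial.C ≫ ψ = g₀.left.appTop ≫ alg :=
    CommRingCat.hom_ext (RingHom.ext fun r => Polynomial.eval₂_C _ _)
  let ua : Spec Ba ⟶ U.left := Spec.map alg ≫ U.left.isoSpec.inv
  have hw : ua ≫ g₀.left = Spec.map ψ ≫ δ₀ := by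
    show (Spec.map alg ≫ U.left.isoSpec.inv) ≫ g₀.left = Spec.map ψ ≫ Spec.map _ ≫ V.left.isoSpec.inv
    rw [← Category.assoc (Spec.map ψ), ← Spec.map_comp, hψC, Spec.map_comp, Category.assoc, Category.assoc,
      Scheme.isoSpec_inv_naturality]
  let w : Spec Ba ⟶ Q.left := ((IsPullback.of_hasPullback g₀ δ).map (Over.forget S)).lift ua (Spec.map ψ) hw
  have hw₁ : w ≫ q₁.left = ua := ((IsPullback.of_hasPullback g₀ δ).map (Over.forget S)).lift_fst _ _ _
  have hw₂ : w ≫ q₂.left = Spec.map ψ := ((IsPullback.of_hasPullback g₀ δ).map (Over.forget S)).lift_snd _ _ _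
  have hwα : w.appTop α = 0 := by
    have e₁ : w.appTop (q₁.left.appTop a) = (Scheme.ΓSpecIso Ba).inv (alg a) := by
      rw [← CommRingCat.comp_apply, ← Scheme.Hom.comp_appTop, hw₁]
      show ((Spec.map alg ≫ U.left.isoSpec.inv).appTop) a = _
      have hiso : U.left.isoSpec.inv.appTop = (Scheme.ΓSpecIso _).inv := by
        rw [← cancel_mono U.left.isoSpec.hom.appTop, ← Scheme.Hom.comp_appTop, Iso.hom_inv_id,
          Scheme.Hom.id_appTop]
        simp [Scheme.isoSpec]
      rw [Scheme.Hom.comp_appTop, CommRingCat.comp_apply, hiso]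
      exact appTop_SpecMap_apply alg a
    have e₂ : w.appTop (q₂.left.appTop tT) = (Scheme.ΓSpecIso Ba).inv (ψ Polynomial.X) := by
      rw [← CommRingCat.comp_apply, ← Scheme.Hom.comp_appTop, hw₂]
      exact appTop_SpecMap_apply ψ _
    have e₃ : (alg a) * (ψ Polynomial.X) = 1 := by
      show algebraMap _ (Localization.Away a) a * Polynomial.eval₂ _ _ Polynomial.X = 1
      rw [Polynomial.eval₂_X]
      exact IsLocalization.Away.mul_invSelf a
    simp only [α, map_sub, map_mul, map_one, e₁, e₂]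
    rw [← map_mul, e₃, map_one, sub_self]
  have hnil : IsNilpotent (ψ g) := by
    rw [nilpotent_iff_mem_prime]
    intro J hJ
    let x : ↥(Spec Ba) := ⟨J, hJ⟩
    have hxα : w x ∉ Q.left.basicOpen α := fun hx => by
      have : x ∈ w ⁻¹ᵁ Q.left.basicOpen α := hx
      rw [Scheme.preimage_basicOpen_top, hwα, Scheme.basicOpen_zero] at this
      exact this
    have hmem : PrimeSpectrum.comap ψ.hom x ∈ (Im : Set (PrimeSpectrum RT)) :=
      ⟨w x, hxα, (ConcreteCategory.congr_hom (congrArg (fun m : Spec Ba ⟶ Spec RT => m.base) hw₂) x)⟩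
    have h := (PrimeSpectrum.mem_vanishingIdeal _ _).1 hg _ hmem
    exact h
  obtain ⟨P, hP, hP0⟩ := exists_monic_of_inverse ι₀ a g hg0 hnil
  refine ⟨P, hP, fun E => ?_⟩
  -- check on the pullback of the chart
  have sqE := hp.rep.isPullback' E.obj.hom
  have hsnd : Etale (hp.rep.snd E.obj.hom).left := hp.property_snd E.obj.hom
  have : Surjective (hp.rep.snd E.obj.hom).left := hps.2 _ _ _ (hp.rep.isPullback E.obj.hom)
  let E₂ : EtOver X := EtOver.mk ((yon S).map (hp.rep.snd E.obj.hom) ≫ E.obj.hom)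
    (repWith_comp ((repWith_yon_map_iff _ _).2 hsnd) E.property)
  let l₁ : E₂ ⟶ E₀ := EtOver.homMk (hp.rep.fst' E.obj.hom) sqE.w
  let l₂ : E₂ ⟶ E := EtOver.homMk (hp.rep.snd E.obj.hom) rfl
  have : Epi (hp.rep.snd E.obj.hom).left := inferInstance
  apply GrpSchLib.AntiAffine.appTop_injective_of_epi (hp.rep.snd E.obj.hom).left
  have hcomm : hp.rep.snd E.obj.hom ≫ (yon S).preimage (E.obj.hom ≫ f) = hp.rep.fst' E.obj.hom ≫ g₀ :=
    (yon S).map_injective (by
      rw [Functor.map_comp, Functor.map_comp, Functor.map_preimage, hg₀, ← Category.assoc, ← Category.assoc,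
        sqE.w])
  show (hp.rep.snd E.obj.hom).left.appTop.hom _ = (hp.rep.snd E.obj.hom).left.appTop.hom 0
  rw [Polynomial.hom_eval₂, map_zero,
    show (hp.rep.snd E.obj.hom).left.appTop.hom (evSect E s) = evSect E₂ s from evSect_map l₂ s,
    ← show (hp.rep.fst' E.obj.hom).left.appTop.hom a = evSect E₂ s from evSect_map l₁ s]
  have hc : (hp.rep.snd E.obj.hom).left.appTop.hom.comp ((yon S).preimage (E.obj.hom ≫ f)).left.appTop.hom =
      (hp.rep.fst' E.obj.hom).left.appTop.hom.comp ι₀ := by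
    have := congrArg (fun m => m.left.appTop.hom) hcomm
    simpa only [Over.comp_left, Scheme.Hom.comp_appTop, CommRingCat.hom_comp] using this
  rw [hc, ← Polynomial.hom_eval₂, hP0, map_zero]

end Groth.Agent.AicLib
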